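import Mathlib
import Cfsg.Agent.H198.Carriers
import Cfsg.Agent.H198.SplitCount
import Cfsg.Agent.H200.SelfAdj
set_option linter.all false

/-!
# Split counts of involutory similarity automorphisms of `PΩ(Q)`, `q` odd, even dimension (helper200)

`Q` good on `ι → F`, `|ι| = 2k`, `k ≥ 3`, `q` odd; `Hk = {g ∈ Sim Q | det g = mu g ^ k}`.
-/

set_option autoImplicit false
set_option linter.unusedSectionVars false

namespace Cfsg.Agent.H200.OrthSplit

open Module Matrix QuadraticMap Cfsg.Agent.LieClassical.OrthCore Cfsg.Agent.LieClassical.OrthTrans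
  Cfsg.Agent.H198.OrthFrame Cfsg.Agent.H198.ClassesPlus Cfsg.Agent.H198.SplitCount
  Cfsg.Agent.ClassicalGeometry.Reflection Cfsg.Agent.ClassicalGeometry.SpinorSign
  Cfsg.Agent.ClassicalGeometry.OmegaIndex

universe u

variable {ι : Type} [Fintype ι] [DecidableEq ι] {F : Type u} [Field F] {Q : QuadraticForm F (ι → F)}

/-- The linear map of a matrix. -/
abbrev lin (g : GL ι F) : (ι → F) →ₗ[F] (ι → F) := Matrix.toLin' (g : Matrix ι ι F)

theorem lin_apply (g : GL ι F) (v : ι → F) : lin g v = (g : Matrix ι ι F) *ᵥ v := rfl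

theorem det_lin (g : Sim Q) : LinearMap.det (lin (g : GL ι F)) = (dt g : F) := by
  rw [dt_apply, LinearMap.det_toLin']

omit [DecidableEq ι] in
theorem finrank_eq : finrank F (ι → F) = Fintype.card ι := Module.finrank_fintype_fun_eq_card F

theorem dt_sq (hG : Good Q) (g : Sim Q) : dt g ^ 2 = mu hG g ^ Fintype.card ι := by
  apply Units.ext
  have h := SelfAdj.det_sq_quad (Q := Q) hG.nondeg (g := lin (g : GL ι F)) (c := (mu hG g : F))
    (fun v => mu_spec hG g v)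
  rw [det_lin, finrank_eq] at h
  rw [Units.val_pow_eq_pow_val, Units.val_pow_eq_pow_val]
  exact h

/-- `det g = ± mu g ^ k`. -/
theorem dt_cases (hG : Good Q) {k : ℕ} (hk : Fintype.card ι = 2 * k) (g : Sim Q) :
    dt g = mu hG g ^ k ∨ dt g = -mu hG g ^ k := by
  have h := dt_sq hG g
  rw [hk, mul_comm 2 k, pow_mul] at h
  have h1 : ((dt g : Fˣ) : F) ^ 2 = ((mu hG g ^ k : Fˣ) : F) ^ 2 := by
    rw [← Units.val_pow_eq_pow_val, ← Units.val_pow_eq_pow_val, h]
  rcases sq_eq_sq_iff_eq_or_eq_neg.1 h1 with h2 | h2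
  · exact Or.inl (Units.ext h2)
  · exact Or.inr (Units.ext (by rw [h2, Units.val_neg]))

/-- `eta g = det g / mu g ^ k`. -/
noncomputable def eta (hG : Good Q) (k : ℕ) : Sim Q →* Fˣ where
  toFun g := dt g * (mu hG g ^ k)⁻¹
  map_one' := by simp
  map_mul' g h := by
    rw [map_mul, map_mul, mul_pow, mul_inv]
    exact mul_mul_mul_comm _ _ _ _

theorem eta_eq_one_iff (hG : Good Q) (k : ℕ) (g : Sim Q) : eta hG k g = 1 ↔ dt g = mu hG g ^ k := by
  change dt g * (mu hG g ^ k)⁻¹ = 1 ↔ _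
  rw [mul_inv_eq_one]

theorem eta_cases (hG : Good Q) {k : ℕ} (hk : Fintype.card ι = 2 * k) (g : Sim Q) :
    eta hG k g = 1 ∨ eta hG k g = -1 := by
  rcases dt_cases hG hk g with h | h
  · exact Or.inl ((eta_eq_one_iff hG k g).2 h)
  · right
    change dt g * (mu hG g ^ k)⁻¹ = -1
    rw [h, neg_mul, mul_inv_cancel]

/-- Scalars as similarities. -/
def sc (Q : QuadraticForm F (ι → F)) : Fˣ →* Sim Q where
  toFun a := ⟨Matrix.GeneralLinearGroup.scalar ι a, a ^ 2, fun v => by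
    change Q (Matrix.scalar ι (a : F) *ᵥ v) = _
    rw [Matrix.scalar_apply, ← Matrix.smul_one_eq_diagonal, Matrix.smul_mulVec, one_mulVec,
      QuadraticMap.map_smul, smul_eq_mul, Units.val_pow_eq_pow_val, _root_.sq]⟩
  map_one' := by
    apply Subtype.ext
    exact map_one _
  map_mul' a b := by
    apply Subtype.ext
    exact map_mul _ _ _

theorem coe_sc (a : Fˣ) : (((sc Q a : Sim Q) : GL ι F) : Matrix ι ι F) = (a : F) • (1 : Matrix ι ι F) := by
  change Matrix.scalar ι (a : F) = _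
  rw [Matrix.scalar_apply, ← Matrix.smul_one_eq_diagonal]

theorem sc_mulVec (a : Fˣ) (v : ι → F) :
    (((sc Q a : Sim Q) : GL ι F) : Matrix ι ι F) *ᵥ v = (a : F) • v := by
  rw [coe_sc, Matrix.smul_mulVec, one_mulVec]

theorem mu_sc (hG : Good Q) (a : Fˣ) : mu hG (sc Q a) = a ^ 2 :=
  mu_unique hG _ fun v => by
    rw [sc_mulVec, QuadraticMap.map_smul, smul_eq_mul, Units.val_pow_eq_pow_val, _root_.sq]

theorem dt_sc (a : Fˣ) : dt (sc Q a) = a ^ Fintype.card ι := by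
  apply Units.ext
  rw [dt_apply, coe_sc, Matrix.det_smul, Matrix.det_one, mul_one, Units.val_pow_eq_pow_val]

theorem eta_sc (hG : Good Q) {k : ℕ} (hk : Fintype.card ι = 2 * k) (a : Fˣ) : eta hG k (sc Q a) = 1 := by
  rw [eta_eq_one_iff, dt_sc, mu_sc, hk, pow_mul]

theorem sc_comm (a : Fˣ) (g : Sim Q) : sc Q a * g = g * sc Q a := by
  apply Subtype.ext
  apply Units.ext
  change (((sc Q a : Sim Q) : GL ι F) : Matrix ι ι F) * ((g : GL ι F) : Matrix ι ι F) =
    ((g : GL ι F) : Matrix ι ι F) * (((sc Q a : Sim Q) : GL ι F) : Matrix ι ι F)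
  rw [coe_sc, Matrix.smul_mul, Matrix.mul_smul, one_mul, mul_one]

theorem S_eq_one_iff' (hG : Good Q) (g : Sim Q) : S hG g = 1 ↔ ∃ a, g = sc Q a := by
  rw [S_eq_one_iff]
  refine exists_congr fun a => ?_
  constructor
  · intro h
    apply Subtype.ext
    apply Units.ext
    rw [coe_sc, h]
  · rintro rfl
    exact coe_sc a

theorem S_eq_iff (hG : Good Q) (g h : Sim Q) : S hG g = S hG h ↔ ∃ a, g = sc Q a * h := by
  rw [← mul_inv_eq_one, ← map_inv, ← map_mul, S_eq_one_iff']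
  exact exists_congr fun a => mul_inv_eq_iff_eq_mul

/-! ### Conjugation of isometries by similarities -/

theorem mem_iso_conj (hG : Good Q) (h : Sim Q) (s : isometryGroup F ⇑Q) :
    (h : GL ι F) * (s : GL ι F) * (h : GL ι F)⁻¹ ∈ isometryGroup F ⇑Q := by
  have h1 : mu hG (h * ⟨s.1, iso_le_sim Q s.2⟩ * h⁻¹) = 1 := by
    rw [map_mul, map_mul, map_inv, (mu_eq_one_iff hG ⟨s.1, iso_le_sim Q s.2⟩).2 s.2, mul_one, mul_inv_cancel]
  exact (mu_eq_one_iff hG _).1 h1

/-- Conjugation of isometries by a similarity. -/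
def cjIso (hG : Good Q) (h : Sim Q) : isometryGroup F ⇑Q →* isometryGroup F ⇑Q where
  toFun s := ⟨(h : GL ι F) * (s : GL ι F) * (h : GL ι F)⁻¹, mem_iso_conj hG h s⟩
  map_one' := by
    apply Subtype.ext
    change (h : GL ι F) * 1 * (h : GL ι F)⁻¹ = 1
    group
  map_mul' s t := by
    apply Subtype.ext
    change (h : GL ι F) * ((s : GL ι F) * (t : GL ι F)) * (h : GL ι F)⁻¹ =
      (h : GL ι F) * (s : GL ι F) * (h : GL ι F)⁻¹ * ((h : GL ι F) * (t : GL ι F) * (h : GL ι F)⁻¹)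
    group

theorem cjIso_refl (hG : Good Q) (h : Sim Q) (v : ι → F) (hv : Q v ≠ 0)
    (hv' : Q (((h : GL ι F) : Matrix ι ι F) *ᵥ v) ≠ 0) :
    cjIso hG h (reflIso Q v hv) = reflIso Q (((h : GL ι F) : Matrix ι ι F) *ᵥ v) hv' := by
  have hc : ((mu hG h : Fˣ) : F) ≠ 0 := (mu hG h).ne_zero
  have h1 : (h : GL ι F) * (reflIso Q v hv : GL ι F) =
      (reflIso Q (((h : GL ι F) : Matrix ι ι F) *ᵥ v) hv' : GL ι F) * (h : GL ι F) := by
    apply Units.ext
    apply Matrix.mulVec_injective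
    funext x
    rw [Units.val_mul, Units.val_mul, coe_reflIso, coe_reflIso, ← mulVec_mulVec, ← mulVec_mulVec,
      reflectionMatrix_mulVec, reflectionMatrix_mulVec, Matrix.mulVec_sub, Matrix.mulVec_smul, mu_spec hG]
    have h2 := SelfAdj.polar_sim (Q := Q) (g := lin (h : GL ι F)) (c := (mu hG h : F))
      (fun v => mu_spec hG h v) x v
    rw [lin_apply, lin_apply] at h2
    rw [polar_comm Q (((h : GL ι F) : Matrix ι ι F) *ᵥ v), h2, polar_comm Q x v]
    congr 2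
    field_simp
  apply Subtype.ext
  change (h : GL ι F) * (reflIso Q v hv : GL ι F) * (h : GL ι F)⁻¹ = _
  rw [h1, mul_inv_cancel_right]

/-- The determinant of isometries. -/
def dti (Q : QuadraticForm F (ι → F)) : isometryGroup F ⇑Q →* Fˣ :=
  (Matrix.GeneralLinearGroup.det (n := ι) (R := F)).comp (isometryGroup F ⇑Q).subtype

theorem dti_apply (s : isometryGroup F ⇑Q) : ((dti Q s : Fˣ) : F) = ((s : GL ι F) : Matrix ι ι F).det := rfl

theorem dti_refl (v : ι → F) (hv : Q v ≠ 0) : dti Q (reflIso Q v hv) = -1 := by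
  apply Units.ext
  rw [dti_apply, det_reflIso, Units.val_neg, Units.val_one]

theorem nondeg_polar (hG : Good Q) : (polarBilin Q).Nondegenerate := by
  refine ⟨fun x hx => hG.nondeg x hx, fun x hx => hG.nondeg x fun y => ?_⟩
  rw [polar_comm]
  exact hx y

theorem two_le_card (hG : Good Q) : 2 ≤ Fintype.card ι := by
  have h := hG.dim
  rw [Module.finrank_fintype_fun_eq_card] at h
  omega

theorem refl_comm_of_perp {v w : ι → F} (hv : Q v ≠ 0) (hw : Q w ≠ 0) (h : polar Q v w = 0) :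
    reflIso Q v hv * reflIso Q w hw = reflIso Q w hw * reflIso Q v hv := by
  have h1 : (((reflIso Q v hv : isometryGroup F ⇑Q) : GL ι F) : Matrix ι ι F) *ᵥ w = w :=
    reflectionMatrix_mulVec_of_polar_eq_zero Q v w h
  have h2 := conj_reflIso Q w hw (reflIso Q v hv) (by rw [h1]; exact hw)
  rw [reflIso_congr Q (w := w) _ hw h1] at h2
  exact mul_inv_eq_iff_eq_mul.1 h2

variable [Finite F]

/-- The spinor sign. -/
noncomputable abbrev ss (Q : QuadraticForm F (ι → F)) : isometryGroup F ⇑Q →* ℤˣ := spinorSign (⇑Q) 1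

theorem ss_refl_sq (h2 : (2 : F) ≠ 0) {v : ι → F} (hv : Q v ≠ 0) (hs : IsSquare (Q v)) :
    ss Q (reflIso Q v hv) = -1 := by
  classical
  have h := spinorSign_reflIso h2 Q one_ne_zero v hv
  rw [one_mul, if_pos hs] at h
  exact h

theorem ss_refl_nsq (h2 : (2 : F) ≠ 0) {v : ι → F} (hv : Q v ≠ 0) (hs : ¬ IsSquare (Q v)) :
    ss Q (reflIso Q v hv) = 1 := by
  classical
  have h := spinorSign_reflIso h2 Q one_ne_zero v hv
  rw [one_mul, if_neg hs] at h
  exact h

/-- The spinor sign of a conjugate under a similarity with non-square multiplier. -/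
theorem ss_cj (hG : Good Q) (h2 : (2 : F) ≠ 0) (h : Sim Q) (hns : ¬ IsSquare ((mu hG h : Fˣ) : F))
    (s : isometryGroup F ⇑Q) : sgn F (ss Q (cjIso hG h s)) = sgn F (ss Q s) * dti Q s := by
  let f1 : isometryGroup F ⇑Q →* Fˣ := (sgn F).comp ((ss Q).comp (cjIso hG h))
  let f2 : isometryGroup F ⇑Q →* Fˣ := ((sgn F).comp (ss Q)) * dti Q
  have key : f1 = f2 := by
    refine MonoidHom.eq_of_eqOn_dense (ClassicalGeometry.CartanDieudonne.closure_reflections_eq_top h2 Q (nondeg_polar hG)) ?_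
    rintro g ⟨v, hv, hg⟩
    obtain rfl := ClassicalGeometry.CartanDieudonne.eq_reflIso Q g v hv hg
    have hm := mu_spec hG h v
    have hv' : Q (((h : GL ι F) : Matrix ι ι F) *ᵥ v) ≠ 0 := by
      rw [hm]
      exact mul_ne_zero (mu hG h).ne_zero hv
    change sgn F (ss Q (cjIso hG h (reflIso Q v hv))) = sgn F (ss Q (reflIso Q v hv)) * dti Q (reflIso Q v hv)
    rw [cjIso_refl hG h v hv hv', dti_refl]
    have h3 := ClassicalGeometry.Universal.isSquare_mul_iff h2 (mu hG h).ne_zero hv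
    rw [← hm] at h3
    by_cases hs : IsSquare (Q v)
    · have h4 : ¬ IsSquare (Q (((h : GL ι F) : Matrix ι ι F) *ᵥ v)) := fun h5 => hns ((h3.1 h5).2 hs)
      rw [ss_refl_sq h2 hv hs, ss_refl_nsq h2 hv' h4, map_one, sgn_neg_one, neg_mul_neg, one_mul]
    · have h4 : IsSquare (Q (((h : GL ι F) : Matrix ι ι F) *ᵥ v)) :=
        h3.2 ⟨fun h5 => absurd h5 hns, fun h5 => absurd h5 hs⟩
      rw [ss_refl_nsq h2 hv hs, ss_refl_sq h2 hv' h4, map_one, sgn_neg_one, one_mul]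
  exact DFunLike.congr_fun key s

theorem mem_omGL_iff (hG : Good Q) (h2 : (2 : F) ≠ 0) (s : isometryGroup F ⇑Q) :
    (s : GL ι F) ∈ omGL Q ↔ dti Q s = 1 ∧ ss Q s = 1 := by
  have h1 := mem_Omega_iff h2 Q (nondeg_polar hG) (two_le_card hG) one_ne_zero s
  rw [mem_omGL]
  constructor
  · rintro ⟨h, h3⟩
    obtain ⟨h4, h5⟩ := h1.1 h3
    exact ⟨Units.ext h4, h5⟩
  · rintro ⟨h3, h4⟩
    exact ⟨s.2, h1.2 ⟨congrArg Units.val h3, h4⟩⟩

/-- An isometry as a similarity. -/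
def inc (Q : QuadraticForm F (ι → F)) : isometryGroup F ⇑Q →* Sim Q := Subgroup.inclusion (iso_le_sim Q)

theorem coe_inc (s : isometryGroup F ⇑Q) : ((inc Q s : Sim Q) : GL ι F) = (s : GL ι F) := rfl

theorem mu_inc (hG : Good Q) (s : isometryGroup F ⇑Q) : mu hG (inc Q s) = 1 := (mu_eq_one_iff hG _).2 s.2

theorem dt_inc (s : isometryGroup F ⇑Q) : dt (inc Q s) = dti Q s := rfl

theorem exists_inc (hG : Good Q) {g : Sim Q} (hg : mu hG g = 1) : ∃ s, g = inc Q s :=
  ⟨⟨g.1, (mu_eq_one_iff hG g).1 hg⟩, rfl⟩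

theorem inc_injective : Function.Injective (inc Q) := Subgroup.inclusion_injective _

theorem inc_cj (hG : Good Q) (h : Sim Q) (s : isometryGroup F ⇑Q) :
    inc Q (cjIso hG h s) = h * inc Q s * h⁻¹ := rfl

/-- `-1 ∈ Ω`. -/
def NegOmega (Q : QuadraticForm F (ι → F)) : Prop :=
  ((Matrix.GeneralLinearGroup.scalar ι (-1 : Fˣ)) : GL ι F) ∈ omGL Q

/-- The isometry `-1`. -/
def negI (Q : QuadraticForm F (ι → F)) : isometryGroup F ⇑Q :=
  ⟨Matrix.GeneralLinearGroup.scalar ι (-1 : Fˣ), fun v _ => by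
    change Q (Matrix.scalar ι ((-1 : Fˣ) : F) *ᵥ v) = _
    rw [Matrix.scalar_apply, ← Matrix.smul_one_eq_diagonal, Matrix.smul_mulVec, one_mulVec,
      QuadraticMap.map_smul]
    simp⟩

theorem inc_negI : inc Q (negI Q) = sc Q (-1) := rfl

theorem dti_negI {k : ℕ} (hk : Fintype.card ι = 2 * k) : dti Q (negI Q) = 1 := by
  rw [← dt_inc, inc_negI, dt_sc, hk, pow_mul]
  simp

theorem negOmega_iff (hG : Good Q) (h2 : (2 : F) ≠ 0) {k : ℕ} (hk : Fintype.card ι = 2 * k) :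
    NegOmega Q ↔ ss Q (negI Q) = 1 := by
  have h := mem_omGL_iff hG h2 (negI Q)
  rw [dti_negI hk] at h
  exact ⟨fun h1 => (h.1 h1).2, fun h1 => h.2 ⟨rfl, h1⟩⟩

theorem ss_negI_of_not (hG : Good Q) (h2 : (2 : F) ≠ 0) {k : ℕ} (hk : Fintype.card ι = 2 * k)
    (h : ¬ NegOmega Q) : ss Q (negI Q) = -1 := by
  rw [negOmega_iff hG h2 hk] at h
  exact (Int.units_eq_one_or _).resolve_left h

/-- Rescale a similarity with square multiplier to an isometry. -/
theorem exists_rescale (hG : Good Q) {g : Sim Q} {b : Fˣ} (hb : mu hG g = b ^ 2) :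
    ∃ s : isometryGroup F ⇑Q, g = sc Q b * inc Q s := by
  obtain ⟨s, hs⟩ := exists_inc hG (g := sc Q b⁻¹ * g) (by
    rw [map_mul, mu_sc, hb, inv_pow, inv_mul_cancel])
  refine ⟨s, ?_⟩
  rw [← hs, ← mul_assoc, ← map_mul, mul_inv_cancel, map_one, one_mul]

theorem exists_units_sq {c : Fˣ} (h : IsSquare (c : F)) : ∃ b : Fˣ, c = b ^ 2 := by
  obtain ⟨b, hb⟩ := h
  have hb0 : b ≠ 0 := by
    rintro rfl
    rw [mul_zero] at hb
    exact c.ne_zero hb
  exact ⟨Units.mk0 b hb0, Units.ext (by rw [hb, Units.val_pow_eq_pow_val, Units.val_mk0, _root_.sq])⟩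

/-- `-1 ∈ Ω`: a similarity in `ker eta` commuting modulo scalars with one outside `ker eta` has square multiplier. -/
theorem square_of_neg (hG : Good Q) (h2 : (2 : F) ≠ 0) {k : ℕ} (hk : Fintype.card ι = 2 * k)
    (hneg : NegOmega Q) {g h : Sim Q} {a : Fˣ} (hcomm : h * g = sc Q a * (g * h))
    (hg : eta hG k g ≠ 1) (hh : eta hG k h = 1) : IsSquare ((mu hG h : Fˣ) : F) := by
  have hss : ss Q (negI Q) = 1 := (negOmega_iff hG h2 hk).1 hneg
  have step1 : ∀ g : Sim Q, h * g = sc Q a * (g * h) → eta hG k g ≠ 1 →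
      IsSquare ((mu hG g : Fˣ) : F) → IsSquare ((mu hG h : Fˣ) : F) := by
    intro g hcomm hg hsq
    obtain ⟨b, hb⟩ := exists_units_sq hsq
    obtain ⟨s, rfl⟩ := exists_rescale hG hb
    have hds : dti Q s = -1 := by
      rw [map_mul, eta_sc hG hk, one_mul] at hg
      rcases eta_cases hG hk (inc Q s) with h3 | h3
      · exact absurd h3 hg
      · change dt (inc Q s) * (mu hG (inc Q s) ^ k)⁻¹ = -1 at h3
        rwa [mu_inc, one_pow, inv_one, mul_one, dt_inc] at h3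
    by_contra hns
    have h3 := ss_cj hG h2 h hns s
    -- the conjugate is `± s`
    have h4 : inc Q (cjIso hG h s) = sc Q a * inc Q s := by
      rw [inc_cj]
      have h5 : h * (sc Q b * inc Q s) = sc Q b * (h * inc Q s) := by
        rw [← mul_assoc, ← sc_comm, mul_assoc]
      have h6 : sc Q a * (sc Q b * inc Q s * h) = sc Q b * (sc Q a * (inc Q s * h)) := by
        rw [mul_assoc (sc Q b), ← mul_assoc, ← map_mul, mul_comm a b, map_mul, mul_assoc]
      rw [h5, h6] at hcomm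
      rw [mul_left_cancel hcomm, mul_assoc, mul_assoc (inc Q s), mul_inv_cancel, mul_one]
    have h5 : a = 1 ∨ a = -1 := by
      have h6 := congrArg (mu hG) h4
      rw [mu_inc, map_mul, mu_inc, mu_sc, mul_one] at h6
      have h7 : (a : F) ^ 2 = 1 := by
        rw [← Units.val_pow_eq_pow_val, ← h6, Units.val_one]
      rw [_root_.sq] at h7
      rcases mul_self_eq_one_iff.1 h7 with h8 | h8
      · exact Or.inl (Units.ext h8)
      · exact Or.inr (Units.ext (by rw [h8, Units.val_neg, Units.val_one]))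
    have h6 : ss Q (cjIso hG h s) = ss Q s := by
      rcases h5 with rfl | rfl
      · rw [map_one, one_mul] at h4
        rw [inc_injective h4]
      · rw [← inc_negI, ← map_mul] at h4
        rw [inc_injective h4, map_mul, hss, one_mul]
    rw [h6, hds, mul_neg, mul_one] at h3
    exact neg_one_ne_one_units h2 (by
      have h7 : (sgn F (ss Q s)) * 1 = (sgn F (ss Q s)) * (-1) := by rw [mul_one, mul_neg, mul_one]; exact h3
      exact (mul_left_cancel h7).symm)
  by_cases hsq : IsSquare ((mu hG g : Fˣ) : F)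
  · exact step1 g hcomm hg hsq
  · by_contra hns
    refine hns (step1 (g * h) ?_ ?_ ?_)
    · rw [← mul_assoc, hcomm, mul_assoc]
    · rw [map_mul, hh, mul_one]
      exact hg
    · rw [map_mul, Units.val_mul, ClassicalGeometry.Universal.isSquare_mul_iff h2 (mu hG g).ne_zero
        (mu hG h).ne_zero]
      exact ⟨fun h3 => absurd h3 hsq, fun h3 => absurd h3 hns⟩

theorem lin_sim (hG : Good Q) (g : Sim Q) (v : ι → F) :
    Q (lin (g : GL ι F) v) = (mu hG g : F) * Q v := mu_spec hG g v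

theorem lin_sq {g : Sim Q} {l : Fˣ} (hl : g * g = sc Q l) (v : ι → F) :
    lin (g : GL ι F) (lin (g : GL ι F) v) = (l : F) • v := by
  rw [← sc_mulVec, ← hl, lin_apply, lin_apply, mulVec_mulVec]
  rfl

theorem comm_of_cj (hG : Good Q) {g : Sim Q} {s : isometryGroup F ⇑Q} (h : cjIso hG g s = s) :
    g * inc Q s = inc Q s * g := by
  have h1 := inc_cj hG g s
  rw [h] at h1
  exact (mul_inv_eq_iff_eq_mul.1 h1.symm)

/-- An involution outside `ker eta` commutes with an element of `SO` which is not in `Ω`. -/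
theorem exists_commuting (hG : Good Q) (h2 : (2 : F) ≠ 0) {k : ℕ} (hk : Fintype.card ι = 2 * k)
    (hk3 : 3 ≤ k) {g : Sim Q} {l : Fˣ} (hl : g * g = sc Q l) (hg : eta hG k g ≠ 1) :
    ∃ s : isometryGroup F ⇑Q, dti Q s = 1 ∧ ss Q s = -1 ∧ g * inc Q s = inc Q s * g := by
  have hc0 : ((mu hG g : Fˣ) : F) ≠ 0 := (mu hG g).ne_zero
  have hd : finrank F (ι → F) = 2 * k := by rw [finrank_eq, hk]
  obtain ⟨v0, hv0⟩ := exists_ne_zero_of_good hG
  have hlc : ((l : Fˣ) : F) = mu hG g := by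
    rcases SelfAdj.cases_scalar (lin_sim hG g) (lin_sq hl) hv0 with h1 | h1
    · exact h1
    · exfalso
      apply hg
      rw [eta_eq_one_iff]
      apply Units.ext
      rw [← det_lin, Units.val_pow_eq_pow_val]
      exact SelfAdj.det_skew h2 hG.nondeg hd hc0 (lin_sim hG g) (by rw [← h1]; exact lin_sq hl)
  have hl' : ∀ v, lin (g : GL ι F) (lin (g : GL ι F) v) = ((mu hG g : Fˣ) : F) • v := by
    rw [← hlc]; exact lin_sq hl
  have hs := SelfAdj.selfadj hc0 (lin_sim hG g) hl'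
  by_cases hsq : IsSquare ((mu hG g : Fˣ) : F)
  · obtain ⟨a, ha⟩ := hsq
    have ha0 : a ≠ 0 := by
      rintro rfl
      rw [mul_zero] at ha
      exact hc0 ha
    rw [ha] at hl'
    have hn := SelfAdj.finrank_eig h2 ha0 hl'
    -- one of the eigenspaces has dimension at least three
    obtain ⟨b, hb0, hb, hbd⟩ : ∃ b : F, b ≠ 0 ∧ b * b = a * a ∧
        3 ≤ finrank F (SelfAdj.eig (lin (g : GL ι F)) b) := by
      by_cases h3 : 3 ≤ finrank F (SelfAdj.eig (lin (g : GL ι F)) a)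
      · exact ⟨a, ha0, rfl, h3⟩
      · exact ⟨-a, neg_ne_zero.2 ha0, by ring, by omega⟩
    rw [← hb] at hl'
    obtain ⟨t, ht⟩ := FiniteField.exists_nonsquare (ClassicalGeometry.Universal.ringChar_ne_two h2)
    obtain ⟨v, hv, hQv⟩ := SelfAdj.exists_value_eig h2 hG.nondeg hb0 hl' hs hbd 1
    obtain ⟨w, hw, hQw⟩ := SelfAdj.exists_value_eig h2 hG.nondeg hb0 hl' hs hbd t
    have ht0 : t ≠ 0 := by rintro rfl; exact ht IsSquare.zero
    have hv0 : Q v ≠ 0 := by rw [hQv]; exact one_ne_zero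
    have hw0 : Q w ≠ 0 := by rw [hQw]; exact ht0
    have key : ∀ u (hu : Q u ≠ 0), u ∈ SelfAdj.eig (lin (g : GL ι F)) b →
        cjIso hG g (reflIso Q u hu) = reflIso Q u hu := by
      intro u hu hub
      have h3 : ((g : GL ι F) : Matrix ι ι F) *ᵥ u = b • u := SelfAdj.mem_eig.1 hub
      have h4 : Q (b • u) ≠ 0 := by
        rw [QuadraticMap.map_smul, smul_eq_mul]
        exact mul_ne_zero (mul_ne_zero hb0 hb0) hu
      have h5 : Q (((g : GL ι F) : Matrix ι ι F) *ᵥ u) ≠ 0 := by rw [h3]; exact h4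
      rw [cjIso_refl hG g u hu h5, reflIso_congr Q h5 h4 h3, reflIso_smul Q hu h4]
    refine ⟨reflIso Q v hv0 * reflIso Q w hw0, ?_, ?_, ?_⟩
    · rw [map_mul, dti_refl, dti_refl, neg_mul_neg, one_mul]
    · rw [map_mul, ss_refl_sq h2 hv0 (by rw [hQv]; exact IsSquare.one), ss_refl_nsq h2 hw0 (by rw [hQw]; exact ht),
        mul_one]
    · apply comm_of_cj hG
      rw [map_mul, key v hv0 hv, key w hw0 hw]
  · obtain ⟨v, hv, hvg⟩ := SelfAdj.exists_selfadj_nonsquare h2 hG.nondeg (by rw [hd]; omega) hsq (lin_sim hG g) hl'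
    have hgv : Q (((g : GL ι F) : Matrix ι ι F) *ᵥ v) ≠ 0 := by
      rw [mu_spec hG]
      exact mul_ne_zero hc0 hv
    have hggv : ((g : GL ι F) : Matrix ι ι F) *ᵥ (((g : GL ι F) : Matrix ι ι F) *ᵥ v) =
        ((mu hG g : Fˣ) : F) • v := hl' v
    have h4 : Q (((mu hG g : Fˣ) : F) • v) ≠ 0 := by
      rw [QuadraticMap.map_smul, smul_eq_mul]
      exact mul_ne_zero (mul_ne_zero hc0 hc0) hv
    have h5 : Q (((g : GL ι F) : Matrix ι ι F) *ᵥ (((g : GL ι F) : Matrix ι ι F) *ᵥ v)) ≠ 0 := by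
      rw [hggv]; exact h4
    refine ⟨reflIso Q v hv * reflIso Q _ hgv, ?_, ?_, ?_⟩
    · rw [map_mul, dti_refl, dti_refl, neg_mul_neg, one_mul]
    · rw [map_mul]
      have h3 := ClassicalGeometry.Universal.isSquare_mul_iff h2 hc0 hv
      rw [← mu_spec hG] at h3
      by_cases hs : IsSquare (Q v)
      · have h6 : ¬ IsSquare (Q (((g : GL ι F) : Matrix ι ι F) *ᵥ v)) := fun h5 => hsq ((h3.1 h5).2 hs)
        rw [ss_refl_sq h2 hv hs, ss_refl_nsq h2 hgv h6, mul_one]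
      · have h6 : IsSquare (Q (((g : GL ι F) : Matrix ι ι F) *ᵥ v)) :=
          h3.2 ⟨fun h5 => absurd h5 hsq, fun h5 => absurd h5 hs⟩
        rw [ss_refl_nsq h2 hv hs, ss_refl_sq h2 hgv h6, one_mul]
    · apply comm_of_cj hG
      rw [map_mul, cjIso_refl hG g v hv hgv, cjIso_refl hG g _ hgv h5, reflIso_congr Q h5 h4 hggv,
        reflIso_smul Q hv h4]
      exact (refl_comm_of_perp hv hgv hvg).symm

/-! ### The subgroups -/

/-- Elements of `ker eta` with square multiplier. -/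
noncomputable def nn (hG : Good Q) (k : ℕ) : Subgroup (Sim Q) :=
  (eta hG k).ker ⊓ ((powMonoidHom 2 : Fˣ →* Fˣ).range).comap (mu hG)

theorem mem_nn (hG : Good Q) {k : ℕ} {g : Sim Q} :
    g ∈ nn hG k ↔ eta hG k g = 1 ∧ IsSquare ((mu hG g : Fˣ) : F) := by
  constructor
  · rintro ⟨h1, ⟨b, hb⟩⟩
    refine ⟨h1, (b : F), ?_⟩
    rw [← hb, powMonoidHom_apply, Units.val_pow_eq_pow_val, _root_.sq]
  · rintro ⟨h1, h2⟩
    obtain ⟨b, hb⟩ := exists_units_sq h2
    exact ⟨h1, b, hb.symm⟩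

theorem ker_le_nn (hG : Good Q) {k : ℕ} (hk : Fintype.card ι = 2 * k) : (S hG).ker ≤ nn hG k := by
  intro g hg
  obtain ⟨a, rfl⟩ := (S_eq_one_iff' hG g).1 hg
  rw [mem_nn, mu_sc]
  exact ⟨eta_sc hG hk a, (a : F), by rw [Units.val_pow_eq_pow_val, _root_.sq]⟩

theorem relIndex_nn (hG : Good Q) (h2 : (2 : F) ≠ 0) {k : ℕ} {h0 : Sim Q} (h0e : eta hG k h0 = 1)
    (h0n : ¬ IsSquare ((mu hG h0 : Fˣ) : F)) : (nn hG k).relIndex (eta hG k).ker = 2 := by
  rw [Subgroup.relIndex, Subgroup.index_eq_two_iff]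
  refine ⟨⟨h0, h0e⟩, fun b => ?_⟩
  have hb : eta hG k b.1 = 1 := b.2
  rw [Subgroup.mem_subgroupOf, Subgroup.mem_subgroupOf, mem_nn, mem_nn, Subgroup.coe_mul, map_mul, map_mul,
    Units.val_mul, ClassicalGeometry.Universal.isSquare_mul_iff h2 (mu hG b.1).ne_zero (mu hG h0).ne_zero,
    hb, h0e, one_mul]
  by_cases h3 : IsSquare ((mu hG b.1 : Fˣ) : F)
  · right
    exact ⟨⟨rfl, h3⟩, fun h4 => h0n (h4.2.1 h3)⟩
  · left
    exact ⟨⟨rfl, fun h4 => absurd h4 h3, fun h4 => absurd h4 h0n⟩, fun h4 => h3 h4.2⟩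

theorem relIndex_map_nn (hG : Good Q) (h2 : (2 : F) ≠ 0) {k : ℕ} (hk : Fintype.card ι = 2 * k)
    {h0 : Sim Q} (h0e : eta hG k h0 = 1) (h0n : ¬ IsSquare ((mu hG h0 : Fˣ) : F)) :
    ((nn hG k).map (S hG)).relIndex ((eta hG k).ker.map (S hG)) = 2 := by
  have h1 := ker_le_nn hG hk
  have h3 : nn hG k ≤ (eta hG k).ker := inf_le_left
  rw [Subgroup.relIndex_map_map, sup_eq_left.2 h1, sup_eq_left.2 (h1.trans h3), relIndex_nn hG h2 h0e h0n]

theorem inn_le (hG : Good Q) (h2 : (2 : F) ≠ 0) {k : ℕ} :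
    Inn (POmega F ⇑Q) ≤ (nn hG k).map (S hG) := by
  rw [inn_eq hG]
  rintro _ ⟨g, hg, rfl⟩
  refine ⟨g, ?_, rfl⟩
  obtain ⟨h3, -⟩ := mem_omGL.1 hg
  have h4 : g = inc Q ⟨g.1, h3⟩ := rfl
  have h5 := (mem_omGL_iff hG h2 ⟨g.1, h3⟩).1 hg
  rw [SetLike.mem_coe, mem_nn, h4, mu_inc, Units.val_one]
  refine ⟨?_, IsSquare.one⟩
  rw [eta_eq_one_iff, mu_inc, one_pow, dt_inc]
  exact h5.1

/-- Elements of `nn` up to scalars. -/
theorem exists_iso_of_nn (hG : Good Q) {k : ℕ} (hk : Fintype.card ι = 2 * k) {g : Sim Q}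
    (hg : g ∈ nn hG k) : ∃ s : isometryGroup F ⇑Q, S hG g = S hG (inc Q s) ∧ dti Q s = 1 := by
  rw [mem_nn] at hg
  obtain ⟨b, hb⟩ := exists_units_sq hg.2
  obtain ⟨s, rfl⟩ := exists_rescale hG hb
  refine ⟨s, (S_eq_iff hG _ _).2 ⟨b, rfl⟩, ?_⟩
  have h3 := hg.1
  rw [map_mul, eta_sc hG hk, one_mul, eta_eq_one_iff, mu_inc, one_pow, dt_inc] at h3
  exact h3

theorem mem_inn_of (hG : Good Q) (h2 : (2 : F) ≠ 0) {s : isometryGroup F ⇑Q} (h3 : dti Q s = 1)
    (h4 : ss Q s = 1) : S hG (inc Q s) ∈ Inn (POmega F ⇑Q) := by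
  rw [inn_eq hG]
  exact ⟨inc Q s, (mem_omGL_iff hG h2 s).2 ⟨h3, h4⟩, rfl⟩

theorem map_nn_eq_inn (hG : Good Q) (h2 : (2 : F) ≠ 0) {k : ℕ} (hk : Fintype.card ι = 2 * k)
    (hneg : ¬ NegOmega Q) : (nn hG k).map (S hG) = Inn (POmega F ⇑Q) := by
  refine le_antisymm ?_ (inn_le hG h2)
  rintro _ ⟨g, hg, rfl⟩
  obtain ⟨s, hs, hd⟩ := exists_iso_of_nn hG hk hg
  rw [hs]
  rcases Int.units_eq_one_or (ss Q s) with h3 | h3
  · exact mem_inn_of hG h2 hd h3
  · have h4 : S hG (inc Q s) = S hG (inc Q (negI Q * s)) := by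
      rw [map_mul, inc_negI, map_mul, (S_eq_one_iff' hG _).2 ⟨-1, rfl⟩, one_mul]
    rw [h4]
    apply mem_inn_of hG h2
    · rw [map_mul, dti_negI hk, hd, one_mul]
    · rw [map_mul, ss_negI_of_not hG h2 hk hneg, h3, neg_mul_neg, one_mul]

theorem inn_conj {T : Type*} [Group T] (α : MulAut T) {β : MulAut T} (h : β ∈ Inn T) :
    α * β * α⁻¹ ∈ Inn T := by
  obtain ⟨t, rfl⟩ := h
  refine ⟨α t, ?_⟩
  apply MulEquiv.ext
  intro x
  simp [MulAut.conj_apply, MulAut.mul_apply]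

/-- **The split count.** -/
theorem main (hG : Good Q) (h2 : (2 : F) ≠ 0) {k : ℕ} (hk : Fintype.card ι = 2 * k) (hk3 : 3 ≤ k)
    {h0 : Sim Q} (h0e : eta hG k h0 = 1) (h0n : ¬ IsSquare ((mu hG h0 : Fˣ) : F)) {g : Sim Q}
    (hg : eta hG k g ≠ 1) (ho : orderOf (S hG g) = 2) :
    (splitClassCount ((eta hG k).ker.map (S hG)) (Inn (POmega F ⇑Q)) (S hG g) = 1 ∨
      splitClassCount ((eta hG k).ker.map (S hG)) (Inn (POmega F ⇑Q)) (S hG g) = 2) ∧
    ((NegOmega Q ∨ Even k) →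
      splitClassCount ((eta hG k).ker.map (S hG)) (Inn (POmega F ⇑Q)) (S hG g) = 2) := by
  have hle : Inn (POmega F ⇑Q) ≤ (nn hG k).map (S hG) := inn_le hG h2
  have hle2 : (nn hG k).map (S hG) ≤ (eta hG k).ker.map (S hG) := Subgroup.map_mono inf_le_left
  have hidx := relIndex_map_nn hG h2 hk h0e h0n
  rw [splitClassCount_eq_relIndex (hle.trans hle2) (fun h _ k hk => inn_conj h hk)]
  obtain ⟨l, hl⟩ : ∃ l, g * g = sc Q l := by
    rw [← S_eq_one_iff' hG, map_mul, ← _root_.sq, ← ho, pow_orderOf_eq_one]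
  have hcent : ∀ h : Sim Q, S hG h ∈ Subgroup.centralizer {S hG g} → ∃ a, h * g = sc Q a * (g * h) := by
    intro h hh
    rw [Subgroup.mem_centralizer_singleton_iff, ← map_mul, ← map_mul] at hh
    exact (S_eq_iff hG _ _).1 hh
  have hsq : (NegOmega Q ∨ Even k) → ∀ h : Sim Q, eta hG k h = 1 →
      S hG h ∈ Subgroup.centralizer {S hG g} → h ∈ nn hG k := by
    intro hcase h hh hh2
    obtain ⟨a, ha⟩ := hcent h hh2
    rw [mem_nn]
    refine ⟨hh, ?_⟩
    rcases hcase with hneg | hev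
    · exact square_of_neg hG h2 hk hneg ha hg hh
    · refine SelfAdj.square_of_even (Q := Q) (k := k) (g := lin (g : GL ι F)) (h := lin (h : GL ι F))
        (c := (mu hG g : F)) (l := (l : F)) (d := (mu hG h : F)) (e := (a : F)) h2 hG.nondeg
        (by rw [finrank_eq, hk]) hev (mu hG g).ne_zero (lin_sim hG g) (lin_sq hl) ?_ (mu hG h).ne_zero
        (lin_sim hG h) ?_
      · intro h3
        apply hg
        rw [eta_eq_one_iff]
        apply Units.ext
        rw [← det_lin, h3, Units.val_pow_eq_pow_val]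
      · intro v
        have h3 := congrArg (fun x : Sim Q => ((x : GL ι F) : Matrix ι ι F) *ᵥ v) ha
        change (((h : GL ι F) : Matrix ι ι F) * ((g : GL ι F) : Matrix ι ι F)) *ᵥ v =
          ((((sc Q a : Sim Q) : GL ι F) : Matrix ι ι F) *
            (((g : GL ι F) : Matrix ι ι F) * ((h : GL ι F) : Matrix ι ι F))) *ᵥ v at h3
        rw [← mulVec_mulVec, ← mulVec_mulVec, ← mulVec_mulVec, sc_mulVec] at h3
        exact h3
  have hsup : (NegOmega Q ∨ Even k) → Inn (POmega F ⇑Q) ⊔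
      ((eta hG k).ker.map (S hG) ⊓ Subgroup.centralizer {S hG g}) = (nn hG k).map (S hG) := by
    intro hcase
    apply le_antisymm
    · refine sup_le hle ?_
      rintro _ ⟨⟨h, hh, rfl⟩, hh2⟩
      exact ⟨h, hsq hcase h hh hh2, rfl⟩
    · by_cases hneg : NegOmega Q
      · obtain ⟨s, hs1, hs2, hs3⟩ := exists_commuting hG h2 hk hk3 hl hg
        rintro _ ⟨n, hn, rfl⟩
        obtain ⟨t, ht, htd⟩ := exists_iso_of_nn hG hk hn
        rw [ht]
        rcases Int.units_eq_one_or (ss Q t) with h3 | h3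
        · exact Subgroup.mem_sup_left (mem_inn_of hG h2 htd h3)
        · have h4 : inc Q t = inc Q (t * s⁻¹) * inc Q s := by
            rw [← map_mul, inv_mul_cancel_right]
          rw [h4, map_mul]
          refine Subgroup.mul_mem_sup (mem_inn_of hG h2 ?_ ?_) ⟨⟨inc Q s, ?_, rfl⟩, ?_⟩
          · rw [map_mul, map_inv, htd, hs1, inv_one, one_mul]
          · rw [map_mul, map_inv, h3, hs2]
            rfl
          · rw [SetLike.mem_coe, MonoidHom.mem_ker, eta_eq_one_iff, mu_inc, one_pow, dt_inc, hs1]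
          · exact Subgroup.mem_centralizer_singleton_iff.2 (by rw [← map_mul, ← map_mul, hs3])
      · rw [map_nn_eq_inn hG h2 hk hneg]
        exact le_sup_left
  refine ⟨?_, fun hcase => by rw [hsup hcase, hidx]⟩
  by_cases hneg : NegOmega Q
  · right
    rw [hsup (Or.inl hneg), hidx]
  · have h3 : (Inn (POmega F ⇑Q) ⊔ ((eta hG k).ker.map (S hG) ⊓
        Subgroup.centralizer {S hG g})).relIndex ((eta hG k).ker.map (S hG)) ∣ 2 := by
      rw [← hidx, map_nn_eq_inn hG h2 hk hneg]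
      exact Subgroup.relIndex_dvd_of_le_left _ le_sup_left
    exact (Nat.dvd_prime Nat.prime_two).1 h3

end Cfsg.Agent.H200.OrthSplit
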